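import Mathlib
import Cfsg.Prelude.Def_Transfer
import Cfsg.Agent.Lib.Elementary
import Cfsg.Agent.Lib.PGroup.CyclicMax

/-! An odd `p`-group acting faithfully on an elementary abelian group with stabilisers of constant order. -/

set_option autoImplicit false

namespace CfsgLib.ActionStab

variable {P E : Type*} [Group P] [AddCommGroup E] [DistribMulAction P E]

/-- The norm of the first `n` powers. -/
def orbitSum (u : P) (n : ℕ) (v : E) : E := ∑ i ∈ Finset.range n, u ^ i • v

theorem orbitSum_fixed {u : P} {n : ℕ} (hu : u ^ n = 1) (v : E) : u • orbitSum u n v = orbitSum u n v := by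
  have h1 : u • orbitSum u n v + v = orbitSum u n v + v := by
    have e1 : u • orbitSum u n v + v = ∑ i ∈ Finset.range (n + 1), u ^ i • v := by
      rw [Finset.sum_range_succ', orbitSum, Finset.smul_sum, pow_zero, one_smul]
      simp only [pow_succ', mul_smul]
    rw [e1, Finset.sum_range_succ, hu, one_smul, orbitSum]
  exact add_right_cancel h1

theorem orbitSum_of_fixed {u : P} {v : E} (h : u • v = v) (n : ℕ) : orbitSum u n v = n • v := by
  have : ∀ i : ℕ, u ^ i • v = v := by
    intro i
    induction i with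
    | zero => rw [pow_zero, one_smul]
    | succ k ih => rw [pow_succ, mul_smul, h, ih]
  simp [orbitSum, this]

theorem orbitSum_add (u : P) (n : ℕ) (v w : E) : orbitSum u n (v + w) = orbitSum u n v + orbitSum u n w := by
  simp [orbitSum, smul_add, Finset.sum_add_distrib]

theorem orbitSum_comm {u g : P} (h : Commute g u) (n : ℕ) (v : E) :
    g • orbitSum u n v = orbitSum u n (g • v) := by
  simp [orbitSum, Finset.smul_sum, smul_smul, (h.pow_right _).eq]

variable [Finite P] {p q : ℕ} [hpf : Fact p.Prime]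

theorem stab_eq_of_le (hconst : ∀ a b : E, a ≠ 0 → b ≠ 0 →
      Nat.card (MulAction.stabilizer P a) = Nat.card (MulAction.stabilizer P b))
    {a b c : E} (ha : a ≠ 0) (hb : b ≠ 0) (hc : c ≠ 0)
    (hle : ∀ g : P, g • c = c → g • a = a ∧ g • b = b) :
    ∀ g : P, g • a = a → g • b = b := by
  have h1 : MulAction.stabilizer P c = MulAction.stabilizer P a :=
    Subgroup.eq_of_le_of_card_ge (fun g hg => (hle g hg).1) (hconst a c ha hc).le
  intro g hg
  have : g ∈ MulAction.stabilizer P c := by rw [h1]; exact hg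
  exact (hle g this).2

theorem central_fpf [FaithfulSMul P E] (hinj : ∀ v : E, p • v = 0 → v = 0)
    (hconst : ∀ a b : E, a ≠ 0 → b ≠ 0 →
      Nat.card (MulAction.stabilizer P a) = Nat.card (MulAction.stabilizer P b))
    {z : P} (hz : z ∈ Subgroup.center P) (hzp : z ^ p = 1) (hz1 : z ≠ 1) {a : E} (ha : z • a = a) : a = 0 := by
  by_contra ha0
  obtain ⟨v, hv⟩ : ∃ v : E, z • v ≠ v := by
    by_contra! h
    exact hz1 (eq_of_smul_eq_smul (fun v : E => by rw [h v, one_smul]))
  set b := v - z • v with hbdef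
  have hb0 : b ≠ 0 := sub_ne_zero.2 (fun e => hv e.symm)
  have hNb : orbitSum z p b = 0 := by
    have := orbitSum_add z p b (z • v)
    rw [hbdef, sub_add_cancel, ← orbitSum_comm (Commute.refl z), orbitSum_fixed hzp] at this
    rw [hbdef]
    exact add_right_cancel (this.symm.trans (zero_add _).symm)
  have hzb : z • b ≠ b := by
    intro e
    rw [orbitSum_of_fixed e] at hNb
    exact hb0 (hinj _ hNb)
  have hc0 : a + b ≠ 0 := by
    intro e
    apply hzb
    rw [show b = -a from eq_neg_of_add_eq_zero_right e, smul_neg, ha]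
  refine hzb (stab_eq_of_le hconst ha0 hb0 hc0 ?_ z ha)
  intro g hg
  have hN : orbitSum z p (a + b) = p • a := by
    rw [orbitSum_add, orbitSum_of_fixed ha, hNb, add_zero]
  have h1 : g • (p • a) = p • a := by
    rw [← hN, orbitSum_comm (Subgroup.mem_center_iff.1 hz g), hg]
  have h2 : g • a = a := by
    rw [← sub_eq_zero]
    apply hinj
    rw [smul_sub, smul_comm p g a, h1, sub_self]
  refine ⟨h2, ?_⟩
  rw [smul_add, h2] at hg
  exact add_left_cancel hg

theorem isCyclic_fpf [FaithfulSMul P E] [Nontrivial E] (hp2 : p ≠ 2) (hP : IsPGroup p P)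
    (hinj : ∀ v : E, p • v = 0 → v = 0)
    (hconst : ∀ a b : E, a ≠ 0 → b ≠ 0 →
      Nat.card (MulAction.stabilizer P a) = Nat.card (MulAction.stabilizer P b)) :
    IsCyclic P ∧ ∀ g : P, g ≠ 1 → ∀ a : E, g • a = a → a = 0 := by
  have hcyc : IsCyclic P := by
    by_contra hnc
    have hnct : ¬ IsCyclic (⊤ : Subgroup P) := fun h => hnc (Subgroup.topEquiv.isCyclic.1 h)
    obtain ⟨A, -, hAn, ⟨hAab, hAe⟩, hAc⟩ := CfsgLib.CyclicMax.exists_normal_sq hP hp2 ⊤ hnct
    haveI := hAn
    haveI := hP.isNilpotent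
    have hAbot : A ≠ ⊥ := by
      intro e
      rw [e, Subgroup.card_bot] at hAc
      exact absurd hAc.symm (Nat.one_lt_pow two_ne_zero hpf.out.one_lt).ne'
    obtain ⟨z, ⟨hzA, hzc⟩, hz1⟩ :=
      (Subgroup.bot_or_exists_ne_one (A ⊓ Subgroup.center P)).resolve_left
        (CfsgLib.inf_center_ne_bot_of_nilpotent hAbot)
    have hfz : ∀ a : E, z • a = a → a = 0 := fun a =>
      central_fpf hinj hconst hzc (hAe z hzA) hz1
    -- two elements of `A` fixing a common vector generate the same subgroup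
    have key : ∀ u w : P, u ∈ A → w ∈ A → u ≠ 1 → w ≠ 1 → ∀ a : E, a ≠ 0 → u • a = a → w • a = a →
        ∀ c : E, w • c = c → u • c = c := by
      intro u w hu hw hu1 hw1 a ha hua hwa c hwc
      set K := A ⊓ MulAction.stabilizer P a with hK
      have hKlt : K < A := lt_of_le_of_ne inf_le_left fun e => ha (hfz a (by
        have : z ∈ K := by rw [e]; exact hzA
        exact this.2))
      obtain ⟨k, hk2, hk⟩ := (Nat.dvd_prime_pow hpf.out).1 (hAc ▸ Subgroup.card_dvd_of_le hKlt.le)
      have hklt : k < 2 := by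
        by_contra! h
        obtain rfl : k = 2 := le_antisymm hk2 h
        exact hKlt.ne (Subgroup.eq_of_le_of_card_ge hKlt.le (by rw [hAc, hk]))
      have hz' : ∀ x : P, x ∈ A → x ≠ 1 → x • a = a → Subgroup.zpowers x = K := by
        intro x hx hx1 hxa
        refine Subgroup.eq_of_le_of_card_ge (Subgroup.zpowers_le.2 ⟨hx, hxa⟩) ?_
        rw [Nat.card_zpowers, orderOf_eq_prime (hAe x hx) hx1, hk]
        exact le_of_le_of_eq (Nat.pow_le_pow_right hpf.out.pos (Nat.lt_succ_iff.1 hklt)) (pow_one p)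
      have : u ∈ Subgroup.zpowers w := by
        rw [hz' w hw hw1 hwa, ← hz' u hu hu1 hua]; exact Subgroup.mem_zpowers u
      obtain ⟨i, rfl⟩ := Subgroup.mem_zpowers_iff.1 this
      exact (zpow_mem (K := MulAction.stabilizer P c) hwc i)
    have hcomm : ∀ u w : P, u ∈ A → w ∈ A → Commute u w := fun u w hu hw => setLike_mul_comm hu hw
    -- a non-central element of `A` fixing a non-zero vector
    obtain ⟨y, hyA, hy1, a, ha0, hya⟩ : ∃ y ∈ A, y ≠ 1 ∧ ∃ a : E, a ≠ 0 ∧ y • a = a := by
      by_contra! hno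
      obtain ⟨x, hxA, hxz⟩ := SetLike.exists_of_lt (show Subgroup.zpowers z < A from
        lt_of_le_of_ne (Subgroup.zpowers_le.2 hzA) fun e => by
          have this : Nat.card (Subgroup.zpowers z) = Nat.card A := by rw [e]
          rw [Nat.card_zpowers, orderOf_eq_prime (hAe z hzA) hz1, hAc] at this
          exact absurd this (by nlinarith [hpf.out.two_le]))
      obtain ⟨v, hv⟩ := exists_ne (0 : E)
      have hzero : ∀ w ∈ A, w ≠ 1 → orbitSum w p v = 0 := fun w hw hw1 => by
        by_contra h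
        exact hno w hw hw1 _ h (orbitSum_fixed (hAe w hw) v)
      have hxi : ∀ i : ℕ, x * z ^ i ≠ 1 := fun i e => hxz (by
        rw [eq_inv_of_mul_eq_one_left e]; exact inv_mem (pow_mem (Subgroup.mem_zpowers z) i))
      have hsum : ∑ i ∈ Finset.range p, orbitSum (x * z ^ i) p v = 0 :=
        Finset.sum_eq_zero fun i _ => hzero _ (mul_mem hxA (pow_mem hzA i)) (hxi i)
      have hin : ∀ j ∈ Finset.range p, j ≠ 0 → ∑ i ∈ Finset.range p, (x * z ^ i) ^ j • v = 0 := by
        intro j hj hj0
        have hzj : z ^ j ≠ 1 := fun e => by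
          have h := orderOf_dvd_of_pow_eq_one e
          rw [orderOf_eq_prime (hAe z hzA) hz1] at h
          exact absurd (Nat.le_of_dvd (Nat.pos_of_ne_zero hj0) h) (not_le.2 (Finset.mem_range.1 hj))
        have h0 : orbitSum (z ^ j) p v = 0 :=
          central_fpf hinj hconst (pow_mem hzc j) (hAe _ (pow_mem hzA j)) hzj
            (orbitSum_fixed (hAe _ (pow_mem hzA j)) v)
        have : ∀ i : ℕ, (x * z ^ i) ^ j • v = x ^ j • ((z ^ j) ^ i • v) := fun i => by
          rw [((hcomm x z hxA hzA).pow_right i).mul_pow, mul_smul, ← pow_mul, ← pow_mul, mul_comm]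
        simp only [this, ← Finset.smul_sum]
        rw [show ∑ i ∈ Finset.range p, (z ^ j) ^ i • v = orbitSum (z ^ j) p v from rfl, h0, smul_zero]
      rw [show ∑ i ∈ Finset.range p, orbitSum (x * z ^ i) p v =
        ∑ j ∈ Finset.range p, ∑ i ∈ Finset.range p, (x * z ^ i) ^ j • v from Finset.sum_comm,
        Finset.sum_eq_single 0 hin (by simp [hpf.out.pos])] at hsum
      simp only [pow_zero, one_smul, Finset.sum_const, Finset.card_range] at hsum
      exact hv (hinj v hsum)
    obtain ⟨g, hg⟩ : ∃ g : P, y • (g • a) ≠ g • a := by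
      by_contra! hall
      let M : Subgroup P := A ⊓ MulAction.stabilizer P a
      have hMn : M.Normal := ⟨fun m hm g => by
        refine ⟨hAn.conj_mem m hm.1 g, ?_⟩
        by_cases hm1 : m = 1
        · simp [hm1]
        have h := key m y hm.1 hyA hm1 hy1 a ha0 hm.2 hya (g⁻¹ • a) (hall g⁻¹)
        show (g * m * g⁻¹) • a = a
        rw [mul_smul, mul_smul, h, smul_inv_smul]⟩
      have hMbot : M ≠ ⊥ := fun e => hy1 (Subgroup.mem_bot.1 (e ▸ ⟨hyA, hya⟩))
      obtain ⟨u, ⟨⟨huA, hua⟩, huc⟩, hu1⟩ :=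
        (Subgroup.bot_or_exists_ne_one (M ⊓ Subgroup.center P)).resolve_left
          (CfsgLib.inf_center_ne_bot_of_nilpotent hMbot)
      exact ha0 (central_fpf hinj hconst huc (hAe u huA) hu1 hua)
    set b := g • a with hb
    have hb0 : b ≠ 0 := fun e => ha0 ((smul_eq_zero_iff_eq g).1 e)
    have hc0 : a + b ≠ 0 := fun e => hg (by
      rw [show b = -a from eq_neg_of_add_eq_zero_right e, smul_neg, hya])
    -- the norm of `y` separates fixed vectors of conjugates of `y`
    have hdich : ∀ w : P, w ∈ A → w ≠ 1 → ∀ c : E, w • c = c → y • c = c ∨ orbitSum y p c = 0 := by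
      intro w hw hw1 c hwc
      refine or_iff_not_imp_right.2 fun hne => ?_
      exact key y w hyA hw hy1 hw1 _ hne (orbitSum_fixed (hAe y hyA) c)
        (by rw [orbitSum_comm (hcomm w y hw hyA), hwc]) c hwc
    have hconj : ∀ h : P, h * y * h⁻¹ ∈ A ∧ h * y * h⁻¹ ≠ 1 :=
      fun h => ⟨hAn.conj_mem y hyA h, fun e => hy1 (conj_eq_one_iff.1 e)⟩
    have hfix : ∀ h : P, (h * y * h⁻¹) • (h • a) = h • a := fun h => by
      rw [smul_smul, show h * y * h⁻¹ * h = h * y by group, mul_smul, hya]
    refine hg (stab_eq_of_le hconst ha0 hb0 hc0 ?_ y hya)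
    intro h hh
    have hNb : orbitSum y p b = 0 :=
      ((hdich _ (hconj g).1 (hconj g).2 b (hfix g)).resolve_left hg)
    have hN : orbitSum y p (h • a) + orbitSum y p (h • b) = p • a := by
      rw [← orbitSum_add, ← smul_add, hh, orbitSum_add, orbitSum_of_fixed hya, hNb, add_zero]
    have hhb : (h * g * y * (h * g)⁻¹) • (h • b) = h • b := by
      rw [hb, smul_smul h g a]; exact hfix (h * g)
    have hha2 : h • a = a ∨ (h * h) • a = a := by
      rcases hdich _ (hconj h).1 (hconj h).2 _ (hfix h) with hA1 | hA0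
      · rcases hdich _ (hconj (h * g)).1 (hconj (h * g)).2 _ hhb with hB1 | hB0
        · exfalso
          have e1 : (h⁻¹ * y * h) • a = a := by rw [mul_smul, mul_smul, hA1, inv_smul_smul]
          have e2 : (h⁻¹ * y * h) • b = b := by rw [mul_smul, mul_smul, hB1, inv_smul_smul]
          have hw : h⁻¹ * y * h ∈ A ∧ h⁻¹ * y * h ≠ 1 := by simpa using hconj h⁻¹
          exact hg (key y _ hyA hw.1 hy1 hw.2 a ha0 hya e1 b e2)
        · rw [hB0, add_zero, orbitSum_of_fixed hA1] at hN
          exact Or.inl (sub_eq_zero.1 (hinj _ (by rw [smul_sub, hN, sub_self])))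
      · rcases hdich _ (hconj (h * g)).1 (hconj (h * g)).2 _ hhb with hB1 | hB0
        · rw [hA0, zero_add, orbitSum_of_fixed hB1] at hN
          have e : h • b = a := sub_eq_zero.1 (hinj _ (by rw [smul_sub, hN, sub_self]))
          have e' : h • a = b := by
            have := hh
            rw [smul_add, e, add_comm (h • a) a] at this
            exact add_left_cancel this
          exact Or.inr (by rw [mul_smul, e', e])
        · rw [hA0, hB0, add_zero] at hN
          exact absurd (hinj a hN.symm) ha0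
    have hha : h • a = a := by
      rcases hha2 with e | e
      · exact e
      obtain ⟨k, hk⟩ := hP h
      obtain ⟨m, hm⟩ := (hpf.out.odd_of_ne_two hp2).pow (n := k)
      have : h = (h * h) ^ (m + 1) := by
        rw [← sq, ← pow_mul, show 2 * (m + 1) = p ^ k + 1 by omega, pow_succ, hk, one_mul]
      rw [this]
      exact pow_mem (show h * h ∈ MulAction.stabilizer P a from e) (m + 1)
    refine ⟨hha, ?_⟩
    rw [smul_add, hha] at hh
    exact add_left_cancel hh
  refine ⟨hcyc, fun g hg a ha => ?_⟩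
  obtain ⟨k, hk⟩ := (IsPGroup.iff_orderOf.1 hP) g
  have hk1 : 1 ≤ k := Nat.one_le_iff_ne_zero.2 fun e => hg (orderOf_eq_one_iff.1 (by rw [hk, e, pow_zero]))
  refine central_fpf hinj hconst (z := g ^ p ^ (k - 1)) ?_ ?_ ?_ (pow_mem (show g ∈ MulAction.stabilizer P a from ha) (p ^ (k - 1)))
  · rw [Subgroup.mem_center_iff]
    haveI := hcyc
    letI := hcyc.commGroup
    intro x
    exact mul_comm x _
  · rw [← pow_mul, ← pow_succ, Nat.sub_add_cancel hk1, ← hk, pow_orderOf_eq_one]
  · intro e
    have h := Nat.le_of_dvd (pow_pos hpf.out.pos _) (hk ▸ orderOf_dvd_of_pow_eq_one e)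
    exact absurd h (not_le.2 (Nat.pow_lt_pow_right hpf.out.one_lt (by omega)))

theorem constant_stabilizer [FaithfulSMul P E] [Finite E] (hp2 : p ≠ 2) (hP : IsPGroup p P) (hq : q.Prime)
    (hE : ∀ e : E, q • e = 0)
    (hconst : ∀ a b : E, a ≠ 0 → b ≠ 0 →
      Nat.card (MulAction.stabilizer P a) = Nat.card (MulAction.stabilizer P b)) :
    IsCyclic P ∧ ∀ g : P, g ≠ 1 → ∀ a : E, g • a = a → a = 0 := by
  have htriv : (∀ g : P, ∀ v : E, g • v = v) →
      IsCyclic P ∧ ∀ g : P, g ≠ 1 → ∀ a : E, g • a = a → a = 0 := by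
    intro h
    have h1 : ∀ g : P, g = 1 := fun g => eq_of_smul_eq_smul (fun v : E => by rw [h g v, one_smul])
    haveI : Subsingleton P := ⟨fun x y => (h1 x).trans (h1 y).symm⟩
    exact ⟨inferInstance, fun g hg => absurd (h1 g) hg⟩
  rcases subsingleton_or_nontrivial E with hs | hn
  · exact htriv fun g v => Subsingleton.elim _ _
  haveI := Fact.mk hq
  by_cases hpq : p = q
  · apply htriv
    subst hpq
    have hdvd : p ∣ Nat.card E := by
      obtain ⟨v, hv⟩ := exists_ne (0 : E)
      have := addOrderOf_eq_prime (hE v) hv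
      exact this ▸ addOrderOf_dvd_natCard v
    obtain ⟨a, ha, ha0⟩ := hP.exists_fixed_point_of_prime_dvd_card_of_fixed_point E hdvd
      (a := 0) (fun g => smul_zero g)
    intro g v
    by_cases hv : v = 0
    · rw [hv, smul_zero]
    have htop : MulAction.stabilizer P v = ⊤ := by
      apply Subgroup.eq_top_of_card_eq
      rw [← hconst a v (Ne.symm ha0) hv, show MulAction.stabilizer P a = ⊤ from eq_top_iff.2 fun g _ => ha g,
        Subgroup.card_top]
    exact (htop.ge (Subgroup.mem_top g) : g ∈ MulAction.stabilizer P v)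
  refine isCyclic_fpf hp2 hP (fun v hv => ?_) hconst
  by_contra h
  have h1 : addOrderOf v ∣ p := addOrderOf_dvd_of_nsmul_eq_zero hv
  rw [addOrderOf_eq_prime (hE v) h] at h1
  exact hpq ((Nat.prime_dvd_prime_iff_eq hq hpf.out).1 h1).symm

end CfsgLib.ActionStab
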